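import Mathlib
import Cfsg.Agent.Lib.Helper13.Symp
import Cfsg.Agent.Lib.Helper45.PSpAut.Unip
import Cfsg.Agent.S2166

/-!
# Siegel involutions of `Sp_2m(F)` in characteristic two

For a family `w : ι → F^(2m)` on which the symplectic form vanishes and a symmetric matrix
`S : Matrix ι ι F`, the map `v ↦ v + ∑ i, (∑ j, S i j * f(v, w j)) • w i` is a symplectic
involution (characteristic two).  We compute its conjugates, its rank and its type.
-/

set_option autoImplicit false
set_option linter.unusedSectionVars false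

namespace Cfsg.Agent.Lib.Helper45.SpInv

open Matrix Cfsg.Agent.Lib.Helper13 Cfsg.Agent.Lib.Helper45.PSpAut

variable {m : ℕ} {F : Type*} [Field F] {ι : Type*} [Fintype ι] [DecidableEq ι]

/-- Linear combination of a family. -/
def comb (w : ι → (Fin m ⊕ Fin m → F)) (c : ι → F) : Fin m ⊕ Fin m → F := ∑ i, c i • w i

/-- The coordinates `f(v, w j)`. -/
def phi (w : ι → (Fin m ⊕ Fin m → F)) (v : Fin m ⊕ Fin m → F) : ι → F :=
  fun j => Cfsg.sympForm m F v (w j)

/-- The nilpotent part of the Siegel element. -/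
def nVec (w : ι → (Fin m ⊕ Fin m → F)) (S : Matrix ι ι F) (v : Fin m ⊕ Fin m → F) :
    Fin m ⊕ Fin m → F := comb w (S *ᵥ phi w v)

/-- The family is totally isotropic. -/
def Iso (w : ι → (Fin m ⊕ Fin m → F)) : Prop := ∀ i j, Cfsg.sympForm m F (w i) (w j) = 0

theorem comb_add (w : ι → (Fin m ⊕ Fin m → F)) (c d : ι → F) :
    comb w (c + d) = comb w c + comb w d := by
  unfold comb
  rw [← Finset.sum_add_distrib]
  exact Finset.sum_congr rfl fun i _ => by rw [Pi.add_apply, add_smul]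

theorem comb_smul (w : ι → (Fin m ⊕ Fin m → F)) (a : F) (c : ι → F) :
    comb w (a • c) = a • comb w c := by
  unfold comb
  rw [Finset.smul_sum]
  exact Finset.sum_congr rfl fun i _ => by rw [Pi.smul_apply, smul_eq_mul, mul_smul]

theorem comb_zero (w : ι → (Fin m ⊕ Fin m → F)) : comb w (0 : ι → F) = 0 := by
  unfold comb
  exact Finset.sum_eq_zero fun i _ => by rw [Pi.zero_apply, zero_smul]

theorem comb_single (w : ι → (Fin m ⊕ Fin m → F)) (l : ι) :
    comb w (Pi.single l (1 : F)) = w l := by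
  unfold comb
  rw [Finset.sum_eq_single l]
  · rw [Pi.single_eq_same, one_smul]
  · intro i _ hi
    rw [Pi.single_eq_of_ne hi, zero_smul]
  · intro h
    exact absurd (Finset.mem_univ l) h

theorem phi_add (w : ι → (Fin m ⊕ Fin m → F)) (v v' : Fin m ⊕ Fin m → F) :
    phi w (v + v') = phi w v + phi w v' := by
  funext j
  exact sympForm_add_left v v' (w j)

theorem phi_smul (w : ι → (Fin m ⊕ Fin m → F)) (a : F) (v : Fin m ⊕ Fin m → F) :
    phi w (a • v) = a • phi w v := by
  funext j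
  exact sympForm_smul_left a v (w j)

theorem form_comb_left (w : ι → (Fin m ⊕ Fin m → F)) (c : ι → F) (x : Fin m ⊕ Fin m → F) :
    Cfsg.sympForm m F (comb w c) x = ∑ i, c i * Cfsg.sympForm m F (w i) x := by
  unfold comb
  have h : ∀ s : Finset ι, Cfsg.sympForm m F (∑ i ∈ s, c i • w i) x
      = ∑ i ∈ s, c i * Cfsg.sympForm m F (w i) x := by
    intro s
    induction s using Finset.induction_on with
    | empty => simp [sympForm_zero_left]
    | insert a s ha ih =>
      rw [Finset.sum_insert ha, Finset.sum_insert ha, sympForm_add_left, sympForm_smul_left, ih]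
  exact h _

theorem form_comb_right (w : ι → (Fin m ⊕ Fin m → F)) (c : ι → F) (x : Fin m ⊕ Fin m → F) :
    Cfsg.sympForm m F x (comb w c) = ∑ i, c i * Cfsg.sympForm m F x (w i) := by
  rw [sympForm_swap, form_comb_left, ← Finset.sum_neg_distrib]
  exact Finset.sum_congr rfl fun i _ => by rw [sympForm_swap (w i) x]; ring

theorem phi_comb_of_iso {w : ι → (Fin m ⊕ Fin m → F)} (hw : Iso w) (c : ι → F) :
    phi w (comb w c) = 0 := by
  funext j
  show Cfsg.sympForm m F (comb w c) (w j) = 0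
  rw [form_comb_left]
  exact Finset.sum_eq_zero fun i _ => by rw [hw i j, mul_zero]

theorem nVec_add (w : ι → (Fin m ⊕ Fin m → F)) (S : Matrix ι ι F) (v v' : Fin m ⊕ Fin m → F) :
    nVec w S (v + v') = nVec w S v + nVec w S v' := by
  unfold nVec
  rw [phi_add, mulVec_add, comb_add]

theorem nVec_smul (w : ι → (Fin m ⊕ Fin m → F)) (S : Matrix ι ι F) (a : F)
    (v : Fin m ⊕ Fin m → F) : nVec w S (a • v) = a • nVec w S v := by
  unfold nVec
  rw [phi_smul, mulVec_smul, comb_smul]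

theorem nVec_nVec {w : ι → (Fin m ⊕ Fin m → F)} (hw : Iso w) (S : Matrix ι ι F)
    (v : Fin m ⊕ Fin m → F) : nVec w S (nVec w S v) = 0 := by
  unfold nVec
  rw [phi_comb_of_iso hw, mulVec_zero, comb_zero]

/-- The nilpotent part as a linear map. -/
def nLin (w : ι → (Fin m ⊕ Fin m → F)) (S : Matrix ι ι F) :
    (Fin m ⊕ Fin m → F) →ₗ[F] (Fin m ⊕ Fin m → F) where
  toFun := nVec w S
  map_add' := nVec_add w S
  map_smul' := nVec_smul w S

theorem nLin_apply (w : ι → (Fin m ⊕ Fin m → F)) (S : Matrix ι ι F) (v : Fin m ⊕ Fin m → F) :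
    nLin w S v = nVec w S v := rfl

/-- The Siegel element as a matrix. -/
noncomputable def tS (w : ι → (Fin m ⊕ Fin m → F)) (S : Matrix ι ι F) :
    Matrix (Fin m ⊕ Fin m) (Fin m ⊕ Fin m) F := 1 + LinearMap.toMatrix' (nLin w S)

theorem tS_mulVec (w : ι → (Fin m ⊕ Fin m → F)) (S : Matrix ι ι F) (v : Fin m ⊕ Fin m → F) :
    tS w S *ᵥ v = v + nVec w S v := by
  unfold tS
  rw [add_mulVec, one_mulVec, LinearMap.toMatrix'_mulVec, nLin_apply]

theorem tS_sub_one (w : ι → (Fin m ⊕ Fin m → F)) (S : Matrix ι ι F) :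
    tS w S - 1 = LinearMap.toMatrix' (nLin w S) := by
  unfold tS
  rw [add_sub_cancel_left]

section CharTwo

variable [CharP F 2]

theorem form_nVec_left (w : ι → (Fin m ⊕ Fin m → F)) (S : Matrix ι ι F)
    (v x : Fin m ⊕ Fin m → F) :
    Cfsg.sympForm m F (nVec w S v) x = (S *ᵥ phi w v) ⬝ᵥ phi w x := by
  unfold nVec
  rw [form_comb_left]
  unfold dotProduct
  exact Finset.sum_congr rfl fun i _ => by
    rw [Cfsg.Agent.S2166.sympForm_symm (w i) x]; rfl

theorem form_nVec_right (w : ι → (Fin m ⊕ Fin m → F)) (S : Matrix ι ι F)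
    (v x : Fin m ⊕ Fin m → F) :
    Cfsg.sympForm m F x (nVec w S v) = (S *ᵥ phi w v) ⬝ᵥ phi w x := by
  rw [Cfsg.Agent.S2166.sympForm_symm, form_nVec_left]

theorem dot_symm {S : Matrix ι ι F} (hS : Sᵀ = S) (a b : ι → F) :
    (S *ᵥ a) ⬝ᵥ b = (S *ᵥ b) ⬝ᵥ a := by
  rw [dotProduct_comm (S *ᵥ b) a, dotProduct_mulVec, ← vecMul_transpose, hS]

theorem tS_mem {w : ι → (Fin m ⊕ Fin m → F)} (hw : Iso w) {S : Matrix ι ι F} (hS : Sᵀ = S) :
    tS w S ∈ Matrix.symplecticGroup (Fin m) F := by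
  rw [mem_symplecticGroup_iff]
  intro u v
  rw [tS_mulVec, tS_mulVec, sympForm_add_left, sympForm_add_right, sympForm_add_right,
    form_nVec_left, form_nVec_left, form_nVec_right]
  have h1 : phi w (nVec w S v) = 0 := phi_comb_of_iso hw _
  rw [h1, dotProduct_zero, add_zero, dot_symm hS (phi w v) (phi w u), add_assoc,
    CharTwo.add_self_eq_zero, add_zero]

theorem tS_mul_self {w : ι → (Fin m ⊕ Fin m → F)} (hw : Iso w) (S : Matrix ι ι F) :
    tS w S * tS w S = 1 := by
  apply Matrix.toLin'.injective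
  apply LinearMap.ext
  intro v
  have h2 : nVec w S v + nVec w S v = 0 := by
    funext a
    exact CharTwo.add_self_eq_zero _
  rw [Matrix.toLin'_apply, Matrix.toLin'_apply, ← mulVec_mulVec, tS_mulVec, tS_mulVec, nVec_add,
    nVec_nVec hw, add_zero, add_assoc, h2, add_zero, one_mulVec]

/-- The Siegel element as an element of the symplectic group. -/
noncomputable def tSelt (w : ι → (Fin m ⊕ Fin m → F)) (hw : Iso w) (S : Matrix ι ι F)
    (hS : Sᵀ = S) : Matrix.symplecticGroup (Fin m) F := ⟨tS w S, tS_mem hw hS⟩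

theorem tSelt_mulVec (w : ι → (Fin m ⊕ Fin m → F)) (hw : Iso w) (S : Matrix ι ι F)
    (hS : Sᵀ = S) (v : Fin m ⊕ Fin m → F) : (tSelt w hw S hS).1 *ᵥ v = v + nVec w S v :=
  tS_mulVec w S v

theorem tSelt_sq (w : ι → (Fin m ⊕ Fin m → F)) (hw : Iso w) (S : Matrix ι ι F)
    (hS : Sᵀ = S) : tSelt w hw S hS ^ 2 = 1 := by
  apply Subtype.ext
  rw [pow_two]
  exact tS_mul_self hw S

/-- The type of the Siegel element. -/
theorem form_tS_self (w : ι → (Fin m ⊕ Fin m → F)) (S : Matrix ι ι F) (v : Fin m ⊕ Fin m → F) :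
    Cfsg.sympForm m F v (tS w S *ᵥ v) = (S *ᵥ phi w v) ⬝ᵥ phi w v := by
  rw [tS_mulVec, sympForm_add_right, sympForm_self, zero_add, form_nVec_right]

end CharTwo

/-! ### Conjugation and change of family -/

theorem mulVec_comb (M : Matrix (Fin m ⊕ Fin m) (Fin m ⊕ Fin m) F)
    (w : ι → (Fin m ⊕ Fin m → F)) (c : ι → F) :
    M *ᵥ comb w c = comb (fun i => M *ᵥ w i) c := by
  unfold comb
  rw [mulVec_sum]
  exact Finset.sum_congr rfl fun i _ => by rw [mulVec_smul]

theorem phi_map (g : Matrix.symplecticGroup (Fin m) F) (w : ι → (Fin m ⊕ Fin m → F))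
    (v : Fin m ⊕ Fin m → F) : phi (fun i => g.1 *ᵥ w i) (g.1 *ᵥ v) = phi w v := by
  funext j
  exact sp_form g v (w j)

theorem nVec_map (g : Matrix.symplecticGroup (Fin m) F) (w : ι → (Fin m ⊕ Fin m → F))
    (S : Matrix ι ι F) (v : Fin m ⊕ Fin m → F) :
    g.1 *ᵥ nVec w S v = nVec (fun i => g.1 *ᵥ w i) S (g.1 *ᵥ v) := by
  unfold nVec
  rw [mulVec_comb, phi_map]

/-- Change of family: if `w' j = ∑ i, A i j • w i` then `N_{w',S} = N_{w, A S Aᵀ}`. -/
theorem comb_of_comb (w w' : ι → (Fin m ⊕ Fin m → F)) (A : Matrix ι ι F)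
    (hw' : ∀ j, w' j = comb w (fun i => A i j)) (c : ι → F) :
    comb w' c = comb w (A *ᵥ c) := by
  unfold comb
  simp only [hw', comb, Finset.smul_sum, mulVec, dotProduct, Finset.sum_smul]
  rw [Finset.sum_comm]
  refine Finset.sum_congr rfl fun i _ => Finset.sum_congr rfl fun j _ => ?_
  rw [smul_smul, mul_comm]

theorem phi_of_comb (w w' : ι → (Fin m ⊕ Fin m → F)) (A : Matrix ι ι F)
    (hw' : ∀ j, w' j = comb w (fun i => A i j)) (v : Fin m ⊕ Fin m → F) :
    phi w' v = Aᵀ *ᵥ phi w v := by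
  funext j
  show Cfsg.sympForm m F v (w' j) = _
  rw [hw' j, form_comb_right]
  rfl

theorem nVec_of_comb (w w' : ι → (Fin m ⊕ Fin m → F)) (A : Matrix ι ι F)
    (hw' : ∀ j, w' j = comb w (fun i => A i j)) (S : Matrix ι ι F) (v : Fin m ⊕ Fin m → F) :
    nVec w' S v = nVec w (A * S * Aᵀ) v := by
  unfold nVec
  rw [comb_of_comb w w' A hw', phi_of_comb w w' A hw', mulVec_mulVec, mulVec_mulVec]

end Cfsg.Agent.Lib.Helper45.SpInv
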