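import Mathlib
import Cfsg.Agent.Lib.Helper45.SpInv.Siegel
import Cfsg.Agent.Lib.Helper13.SympGen
import Cfsg.Agent.Lib.Helper13.SpParabolic
import Cfsg.Agent.Lib.Helper45.PSpAut.Trans
import Cfsg.Agent.S0245

/-!
# Centralisers of Siegel involutions of `Sp_2m(F)`, characteristic two

For the standard isotropic family `w i = e_(inl (e i))` and an invertible symmetric matrix `S`,
the centraliser of the Siegel element `tS w S` consists of the `g` with
`g w_j = ∑ i, A i j • w i`, `A S Aᵀ = S`; its order is `|{A | A S Aᵀ = S}| · |fix w|`.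
-/

set_option autoImplicit false
set_option linter.unusedSectionVars false

namespace Cfsg.Agent.Lib.Helper45.SpInv

open Matrix Cfsg.Agent.Lib.Helper13 Cfsg.Agent.Lib.Helper45.PSpAut

variable {m : ℕ} {F : Type*} [Field F] {ι : Type*} [Fintype ι] [DecidableEq ι]

/-- The standard isotropic family. -/
def stdFam (e : ι → Fin m) : ι → (Fin m ⊕ Fin m → F) := fun i => eL (e i)

/-- The dual family. -/
def stdDual (e : ι → Fin m) : ι → (Fin m ⊕ Fin m → F) := fun i => eR (e i)

theorem iso_stdFam (e : ι → Fin m) : Iso (stdFam e : ι → (Fin m ⊕ Fin m → F)) := fun i j => by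
  show Cfsg.sympForm m F (eL (e i)) (eL (e j)) = 0
  rw [form_eL, eL_inr]

theorem phi_stdDual {e : ι → Fin m} (he : Function.Injective e) (k : ι) :
    phi (stdFam e) (stdDual e k : Fin m ⊕ Fin m → F) = Pi.single k 1 := by
  funext j
  show Cfsg.sympForm m F (eR (e k)) (eL (e j)) = _
  rw [form_eL, eR_inr]
  by_cases h : j = k
  · subst h; simp
  · rw [Pi.single_eq_of_ne h, if_neg (fun h' => h (he h'))]

theorem comb_stdFam_inl {e : ι → Fin m} (he : Function.Injective e) (c : ι → F) (i : ι) :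
    comb (stdFam e) c (Sum.inl (e i)) = c i := by
  unfold comb
  rw [Finset.sum_apply, Finset.sum_eq_single i]
  · show c i * (eL (e i) : Fin m ⊕ Fin m → F) (Sum.inl (e i)) = c i
    rw [eL_inl, if_pos rfl, mul_one]
  · intro j _ hj
    show c j * (eL (e j) : Fin m ⊕ Fin m → F) (Sum.inl (e i)) = 0
    rw [eL_inl, if_neg (fun h => hj (he h).symm), mul_zero]
  · intro h
    exact absurd (Finset.mem_univ i) h

theorem comb_stdFam_injective {e : ι → Fin m} (he : Function.Injective e) :
    Function.Injective (comb (stdFam e : ι → (Fin m ⊕ Fin m → F))) := by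
  intro c c' h
  funext i
  rw [← comb_stdFam_inl he c i, h, comb_stdFam_inl he c' i]

theorem linearIndependent_stdFam {e : ι → Fin m} (he : Function.Injective e) :
    LinearIndependent F (stdFam e : ι → (Fin m ⊕ Fin m → F)) := by
  rw [Fintype.linearIndependent_iff]
  intro c hc i
  have h0 : comb (stdFam e) c = comb (stdFam e) (0 : ι → F) := by
    rw [comb_zero]; exact hc
  exact congrFun (comb_stdFam_injective he h0) i

theorem nVec_stdDual {e : ι → Fin m} (he : Function.Injective e) (S : Matrix ι ι F) (k : ι) :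
    nVec (stdFam e) S (stdDual e k : Fin m ⊕ Fin m → F) = comb (stdFam e) (fun i => S i k) := by
  unfold nVec
  rw [phi_stdDual he, mulVec_single_one]
  rfl

theorem eq_of_nVec_eq {e : ι → Fin m} (he : Function.Injective e) (S₁ S₂ : Matrix ι ι F)
    (h : ∀ v : Fin m ⊕ Fin m → F, nVec (stdFam e) S₁ v = nVec (stdFam e) S₂ v) : S₁ = S₂ := by
  ext i k
  have h1 := h (stdDual e k)
  rw [nVec_stdDual he, nVec_stdDual he] at h1
  exact congrFun (comb_stdFam_injective he h1) i

/-- Coordinates with respect to a dual family. -/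
theorem phi_comb_dual (w' u' : ι → (Fin m ⊕ Fin m → F))
    (h : ∀ k, phi w' (u' k) = Pi.single k 1) (d : ι → F) : phi w' (comb u' d) = d := by
  funext j
  show Cfsg.sympForm m F (comb u' d) (w' j) = d j
  rw [form_comb_left, Finset.sum_eq_single j]
  · have := congrFun (h j) j
    change Cfsg.sympForm m F (u' j) (w' j) = _ at this
    rw [this, Pi.single_eq_same, mul_one]
  · intro i _ hi
    have := congrFun (h i) j
    change Cfsg.sympForm m F (u' i) (w' j) = _ at this
    rw [this, Pi.single_eq_of_ne (Ne.symm hi), mul_zero]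
  · intro h'
    exact absurd (Finset.mem_univ j) h'

theorem mulVec_col_inv {S S' : Matrix ι ι F} (hSS' : S * S' = 1) (l : ι) :
    S *ᵥ (fun k => S' k l) = Pi.single l 1 := by
  funext i
  have := congrFun (congrFun hSS' i) l
  rw [Matrix.mul_apply, Matrix.one_apply] at this
  show ∑ k, S i k * S' k l = _
  rw [this, Pi.single_apply]

theorem fam_eq_nVec (w' u' : ι → (Fin m ⊕ Fin m → F))
    (h : ∀ k, phi w' (u' k) = Pi.single k 1) {S S' : Matrix ι ι F} (hSS' : S * S' = 1) (l : ι) :
    w' l = nVec w' S (comb u' (fun k => S' k l)) := by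
  unfold nVec
  rw [phi_comb_dual w' u' h, mulVec_col_inv hSS', comb_single]

theorem exists_mat_of_nVec_eq {e : ι → Fin m} (he : Function.Injective e)
    {S S' : Matrix ι ι F} (hSS' : S * S' = 1) (g : Matrix.symplecticGroup (Fin m) F)
    (h : ∀ x : Fin m ⊕ Fin m → F,
      nVec (fun i => g.1 *ᵥ (stdFam e i : Fin m ⊕ Fin m → F)) S x = nVec (stdFam e) S x) :
    ∃ A : Matrix ι ι F,
      (∀ j, g.1 *ᵥ (stdFam e j : Fin m ⊕ Fin m → F) = comb (stdFam e) (fun i => A i j)) ∧
        A * S * Aᵀ = S := by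
  have hdual : ∀ k, phi (fun i => g.1 *ᵥ (stdFam e i : Fin m ⊕ Fin m → F))
      (g.1 *ᵥ (stdDual e k : Fin m ⊕ Fin m → F)) = Pi.single k 1 := fun k => by
    rw [phi_map]; exact phi_stdDual he k
  let A : Matrix ι ι F := fun i l =>
    (S *ᵥ phi (stdFam e) (comb (fun k => g.1 *ᵥ (stdDual e k : Fin m ⊕ Fin m → F))
      (fun k => S' k l))) i
  have hA : ∀ l, g.1 *ᵥ (stdFam e l : Fin m ⊕ Fin m → F) = comb (stdFam e) (fun i => A i l) := by
    intro l
    have h1 := fam_eq_nVec (fun i => g.1 *ᵥ (stdFam e i : Fin m ⊕ Fin m → F))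
      (fun k => g.1 *ᵥ (stdDual e k : Fin m ⊕ Fin m → F)) hdual hSS' l
    rw [h] at h1
    exact h1
  refine ⟨A, hA, ?_⟩
  apply eq_of_nVec_eq he
  intro v
  rw [← nVec_of_comb (stdFam e) (fun i => g.1 *ᵥ (stdFam e i : Fin m ⊕ Fin m → F)) A hA S v, h]

section CharTwo

variable [CharP F 2]

theorem mem_centralizer_tSelt_iff (w : ι → (Fin m ⊕ Fin m → F)) (hw : Iso w) (S : Matrix ι ι F)
    (hS : Sᵀ = S) (g : Matrix.symplecticGroup (Fin m) F) :
    g ∈ Subgroup.centralizer {tSelt w hw S hS} ↔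
      ∀ x : Fin m ⊕ Fin m → F, nVec (fun i => g.1 *ᵥ w i) S x = nVec w S x := by
  rw [Subgroup.mem_centralizer_singleton_iff]
  constructor
  · intro h x
    have h1 := congrArg (fun a : Matrix.symplecticGroup (Fin m) F => a.1 *ᵥ ((g⁻¹).1 *ᵥ x)) h
    simp only [sp_mul_mulVec, tSelt_mulVec, sp_mulVec_inv_mulVec, mulVec_add, nVec_map] at h1
    exact add_left_cancel h1
  · intro h
    apply sp_ext
    intro y
    rw [sp_mul_mulVec, sp_mul_mulVec, tSelt_mulVec, tSelt_mulVec, mulVec_add, nVec_map, h]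

theorem mem_centralizer_std_iff {e : ι → Fin m} (he : Function.Injective e)
    {S S' : Matrix ι ι F} (hS : Sᵀ = S) (hSS' : S * S' = 1)
    (g : Matrix.symplecticGroup (Fin m) F) :
    g ∈ Subgroup.centralizer {tSelt (stdFam e) (iso_stdFam e) S hS} ↔
      ∃ A : Matrix ι ι F,
        (∀ j, g.1 *ᵥ (stdFam e j : Fin m ⊕ Fin m → F) = comb (stdFam e) (fun i => A i j)) ∧
          A * S * Aᵀ = S := by
  rw [mem_centralizer_tSelt_iff]
  constructor
  · intro h
    exact exists_mat_of_nVec_eq he hSS' g h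
  · rintro ⟨A, hA, hAS⟩ x
    rw [nVec_of_comb (stdFam e) _ A hA, hAS]

end CharTwo

/-- The pointwise stabiliser of a family. -/
def fixFam (w : ι → (Fin m ⊕ Fin m → F)) : Subgroup (Matrix.symplecticGroup (Fin m) F) where
  carrier := {g | ∀ i, g.1 *ᵥ w i = w i}
  one_mem' := fun i => sp_one_mulVec (w i)
  mul_mem' := by
    intro a b ha hb i
    rw [sp_mul_mulVec, hb i, ha i]
  inv_mem' := by
    intro a ha i
    have := sp_inv_mulVec_mulVec a (w i)
    rw [ha i] at this
    exact this

theorem mem_fixFam (w : ι → (Fin m ⊕ Fin m → F)) (g : Matrix.symplecticGroup (Fin m) F) :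
    g ∈ fixFam w ↔ ∀ i, g.1 *ᵥ w i = w i := Iff.rfl

/-- Witt: every `A` with `A S Aᵀ = S` (`S` invertible) is induced on the span of the standard
family by a symplectic matrix. -/
theorem exists_sp_of_mat {e : ι → Fin m} (he : Function.Injective e)
    {S : Matrix ι ι F} (hdet : S.det ≠ 0) (A : Matrix ι ι F) (hA : A * S * Aᵀ = S) :
    ∃ g : Matrix.symplecticGroup (Fin m) F,
      ∀ j, g.1 *ᵥ (stdFam e j : Fin m ⊕ Fin m → F) = comb (stdFam e) (fun i => A i j) := by
  have hAdet : A.det ≠ 0 := by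
    intro h0
    have := congrArg Matrix.det hA
    rw [Matrix.det_mul, Matrix.det_mul, h0, zero_mul, zero_mul] at this
    exact hdet this.symm
  set w : ι → (Fin m ⊕ Fin m → F) := stdFam e with hw
  set w' : ι → (Fin m ⊕ Fin m → F) := fun j => comb w (fun i => A i j) with hw'
  have hw'i : LinearIndependent F w' := by
    rw [Fintype.linearIndependent_iff]
    intro d hd
    have h1 : comb w' d = 0 := hd
    rw [comb_of_comb w w' A (fun j => rfl)] at h1
    have h2 : comb w (A *ᵥ d) = comb w (0 : ι → F) := by rw [comb_zero]; exact h1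
    have h3 := comb_stdFam_injective he h2
    have h4 := Matrix.eq_zero_of_mulVec_eq_zero hAdet h3
    intro i
    exact congrFun h4 i
  have hiso' : ∀ i j, Cfsg.sympForm m F (w' i) (w' j) = 0 := by
    intro i j
    have := congrFun (phi_comb_of_iso (iso_stdFam e) (fun k => A k i)) 
    show Cfsg.sympForm m F (comb w (fun k => A k i)) (comb w (fun k => A k j)) = 0
    rw [form_comb_right]
    apply Finset.sum_eq_zero
    intro k _
    have h5 : Cfsg.sympForm m F (comb w (fun k => A k i)) (w k) = 0 := this k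
    rw [h5, mul_zero]
  let eqv := Fintype.equivFin ι
  obtain ⟨M, -, hM⟩ := witt_families_symp (Fintype.card ι) (w ∘ eqv.symm) (w' ∘ eqv.symm)
    ((linearIndependent_stdFam he).comp _ eqv.symm.injective)
    (hw'i.comp _ eqv.symm.injective)
    (fun i j => by
      show Cfsg.sympForm m F (w _) (w _) = Cfsg.sympForm m F (w' _) (w' _)
      rw [hiso', iso_stdFam e])
  refine ⟨M, fun j => ?_⟩
  have := hM (eqv j)
  simpa using this

section CharTwo

variable [CharP F 2]

/-- The centraliser of the Siegel element of an invertible symmetric matrix `S` is in bijection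
with `{A | A S Aᵀ = S} × fix w`. -/
theorem card_centralizer_std {e : ι → Fin m} (he : Function.Injective e)
    {S S' : Matrix ι ι F} (hS : Sᵀ = S) (hSS' : S * S' = 1) :
    Nat.card (Subgroup.centralizer {tSelt (stdFam e) (iso_stdFam e) S hS}) =
      Nat.card {A : Matrix ι ι F // A * S * Aᵀ = S} *
        Nat.card (fixFam (stdFam e : ι → (Fin m ⊕ Fin m → F))) := by
  classical
  have hdet : S.det ≠ 0 := by
    intro h0
    have := congrArg Matrix.det hSS'
    rw [Matrix.det_mul, h0, zero_mul, Matrix.det_one] at this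
    exact zero_ne_one this
  have hW : ∀ A : {A : Matrix ι ι F // A * S * Aᵀ = S},
      ∃ g : Matrix.symplecticGroup (Fin m) F,
        ∀ j, g.1 *ᵥ (stdFam e j : Fin m ⊕ Fin m → F) = comb (stdFam e) (fun i => A.1 i j) :=
    fun A => exists_sp_of_mat he hdet A.1 A.2
  choose gOf hgOf using hW
  rw [← Nat.card_prod]
  symm
  refine Nat.card_congr (Equiv.ofBijective
    (fun p : {A : Matrix ι ι F // A * S * Aᵀ = S} × fixFam (stdFam e : ι → (Fin m ⊕ Fin m → F)) =>
      (⟨gOf p.1 * p.2.1, ?_⟩ :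
        Subgroup.centralizer {tSelt (stdFam e) (iso_stdFam e) S hS})) ⟨?_, ?_⟩)
  · rw [mem_centralizer_std_iff he hS hSS']
    refine ⟨p.1.1, fun j => ?_, p.1.2⟩
    rw [sp_mul_mulVec, p.2.2 j, hgOf]
  · rintro ⟨A, h⟩ ⟨A', h'⟩ hp
    have hp' : gOf A * h.1 = gOf A' * h'.1 := congrArg Subtype.val hp
    have hAA' : A = A' := by
      apply Subtype.ext
      ext i j
      have h1 := congrArg (fun a : Matrix.symplecticGroup (Fin m) F =>
        a.1 *ᵥ (stdFam e j : Fin m ⊕ Fin m → F)) hp'
      simp only [sp_mul_mulVec] at h1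
      rw [h.2 j, h'.2 j, hgOf, hgOf] at h1
      exact congrFun (comb_stdFam_injective he h1) i
    subst hAA'
    have : h.1 = h'.1 := mul_left_cancel hp'
    rw [Subtype.ext this]
  · rintro ⟨g, hg⟩
    obtain ⟨A, hA, hAS⟩ := (mem_centralizer_std_iff he hS hSS' g).mp hg
    refine ⟨(⟨A, hAS⟩, ⟨(gOf ⟨A, hAS⟩)⁻¹ * g, ?_⟩), ?_⟩
    · intro j
      rw [sp_mul_mulVec, hA j, ← hgOf ⟨A, hAS⟩ j, sp_inv_mulVec_mulVec]
    · apply Subtype.ext
      show gOf ⟨A, hAS⟩ * ((gOf ⟨A, hAS⟩)⁻¹ * g) = g
      rw [mul_inv_cancel_left]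

end CharTwo

end Cfsg.Agent.Lib.Helper45.SpInv
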