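import Mathlib
import Cfsg.Agent.Lib.Helper45.SpInv.Cent
import Cfsg.Agent.S2167

/-!
# The order of the centraliser of an involution of `Sp_2m(F)`, characteristic two

Reduction to Siegel elements: an involution `t` with `rank (t - 1) = |ι|` whose type agrees
with that of an invertible symmetric `S : Matrix ι ι F` has
`|C(t)| = |{A | A S Aᵀ = S}| · q^(s(s+1)/2 + 2s(m-s)) · |Sp_(2m-2s)(q)|`.
-/

set_option autoImplicit false
set_option linter.unusedSectionVars false

namespace Cfsg.Agent.Lib.Helper45.SpInv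

open Matrix Cfsg.Agent.Lib.Helper13 Cfsg.Agent.Lib.Helper45.PSpAut

variable {m : ℕ} {F : Type*} [Field F] {ι : Type*} [Fintype ι] [DecidableEq ι]

/-- The order of the pointwise stabiliser of an independent isotropic tuple. -/
theorem card_fixTuple [Fintype F] {k : ℕ} (hk : k ≤ m) (w : Fin k → (Fin m ⊕ Fin m → F))
    (hw : w ∈ isoTuples m k F) :
    Nat.card (fixTuple w) = Fintype.card F ^ (k * (k + 1) / 2 + 2 * k * (m - k)) *
      (Fintype.card F ^ ((m - k) ^ 2) *
        ∏ i ∈ Finset.range (m - k), (Fintype.card F ^ (2 * (i + 1)) - 1)) := by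
  classical
  obtain ⟨l, rfl⟩ : ∃ l, m = k + l := ⟨m - k, by omega⟩
  have h1 := card_eq_card_range_mul (fixTuple w) (tupleMap w) (tupleMap_eq_iff w)
  rw [range_tupleMap w hw, card_isoTuples k (by omega), Cfsg.Agent.S0245.result rfl (k + l)] at h1
  have h2 := parabolic_arith (Fintype.card F) k l
  rw [Nat.add_sub_cancel_left]
  have hq1 : 1 < Fintype.card F := Fintype.one_lt_card
  have hA : 0 < ∏ j : Fin k,
      (Fintype.card F ^ (2 * (k + l) - (j : ℕ)) - Fintype.card F ^ (j : ℕ)) := by
    apply Finset.prod_pos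
    intro j _
    apply Nat.sub_pos_of_lt
    apply Nat.pow_lt_pow_right hq1
    have := j.2
    omega
  apply Nat.eq_of_mul_eq_mul_left hA
  rw [← h1, ← h2]
  ring

theorem card_fixFam_std [Fintype F] {e : ι → Fin m} (he : Function.Injective e) :
    Nat.card (fixFam (stdFam e : ι → (Fin m ⊕ Fin m → F))) =
      Fintype.card F ^ (Fintype.card ι * (Fintype.card ι + 1) / 2
          + 2 * Fintype.card ι * (m - Fintype.card ι)) *
        (Fintype.card F ^ ((m - Fintype.card ι) ^ 2) *
          ∏ i ∈ Finset.range (m - Fintype.card ι), (Fintype.card F ^ (2 * (i + 1)) - 1)) := by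
  classical
  let eqv := Fintype.equivFin ι
  have hk : Fintype.card ι ≤ m := by
    have := Fintype.card_le_of_injective e he
    simpa using this
  have hw : ((stdFam e : ι → (Fin m ⊕ Fin m → F)) ∘ eqv.symm) ∈ isoTuples m (Fintype.card ι) F :=
    ⟨(linearIndependent_stdFam he).comp _ eqv.symm.injective, fun i j => iso_stdFam e _ _⟩
  rw [← card_fixTuple hk _ hw]
  apply Nat.card_congr
  apply Equiv.subtypeEquivRight
  intro g
  rw [mem_fixFam, mem_fixTuple]
  constructor
  · intro h i
    exact h _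
  · intro h i
    have := h (eqv i)
    simpa using this

/-! ### Rank and type of the standard Siegel element -/

theorem rank_tS_std {e : ι → Fin m} (he : Function.Injective e)
    {S S' : Matrix ι ι F} (hSS' : S * S' = 1) :
    (tS (stdFam e : ι → (Fin m ⊕ Fin m → F)) S - 1).rank = Fintype.card ι := by
  have hr : LinearMap.range (nLin (stdFam e : ι → (Fin m ⊕ Fin m → F)) S) =
      Submodule.span F (Set.range (stdFam e : ι → (Fin m ⊕ Fin m → F))) := by
    apply le_antisymm
    · rintro _ ⟨v, rfl⟩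
      rw [nLin_apply]
      unfold nVec comb
      exact Submodule.sum_mem _ fun i _ =>
        Submodule.smul_mem _ _ (Submodule.subset_span (Set.mem_range_self i))
    · rw [Submodule.span_le]
      rintro _ ⟨l, rfl⟩
      refine ⟨comb (stdDual e) (fun k => S' k l), ?_⟩
      rw [nLin_apply]
      exact (fam_eq_nVec (stdFam e) (stdDual e) (phi_stdDual he) hSS' l).symm
  rw [tS_sub_one, Matrix.rank, ← Matrix.toLin'_apply', Matrix.toLin'_toMatrix', hr,
    finrank_span_eq_card (linearIndependent_stdFam (F := F) he)]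

/-- In characteristic two a symmetric matrix with zero diagonal gives an alternating form. -/
theorem dot_mulVec_self_eq_zero [CharP F 2] (S : Matrix ι ι F) (hS : Sᵀ = S)
    (hd : ∀ i, S i i = 0) (y : ι → F) : (S *ᵥ y) ⬝ᵥ y = 0 := by
  classical
  have h1 : (S *ᵥ y) ⬝ᵥ y
      = ∑ p ∈ (Finset.univ : Finset (ι × ι)), (S p.1 p.2 * y p.2) * y p.1 := by
    simp only [dotProduct, mulVec, Finset.sum_mul]
    rw [← Finset.sum_product']
    rfl
  rw [h1]
  apply Finset.sum_involution (fun p _ => Prod.swap p)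
  · intro p _
    have hsym : S p.2 p.1 = S p.1 p.2 := by
      have := congrFun (congrFun hS p.1) p.2
      rwa [transpose_apply] at this
    simp only [Prod.fst_swap, Prod.snd_swap]
    rw [hsym]
    have : S p.1 p.2 * y p.1 * y p.2 = S p.1 p.2 * y p.2 * y p.1 := by ring
    rw [this, CharTwo.add_self_eq_zero]
  · intro p _ hne hcon
    apply hne
    have h : p.2 = p.1 := by
      have := congrArg Prod.fst hcon
      simpa using this
    rw [h, hd, zero_mul, zero_mul]
  · intro p _
    exact Finset.mem_univ _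
  · intro p _
    exact Prod.swap_swap p

theorem typeA_tS_std_iff [CharP F 2] {e : ι → Fin m} (he : Function.Injective e)
    {S : Matrix ι ι F} (hS : Sᵀ = S) :
    (∀ v : Fin m ⊕ Fin m → F,
        Cfsg.sympForm m F v (tS (stdFam e : ι → (Fin m ⊕ Fin m → F)) S *ᵥ v) = 0) ↔
      ∀ i, S i i = 0 := by
  constructor
  · intro h i
    have h1 := h (stdDual e i)
    rw [form_tS_self, phi_stdDual he, mulVec_single_one, dotProduct_single_one] at h1
    exact h1
  · intro h v
    rw [form_tS_self]
    exact dot_mulVec_self_eq_zero S hS h _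

/-- Conjugate elements have centralisers of the same order. -/
theorem card_centralizer_eq_of_conj {G : Type*} [Group G] (c a b : G) (h : c * a = b * c) :
    Nat.card (Subgroup.centralizer {a}) = Nat.card (Subgroup.centralizer {b}) := by
  have hb : b = c * a * c⁻¹ := by rw [h]; group
  have ha : a = c⁻¹ * b * c := by rw [hb]; group
  refine Nat.card_congr ⟨fun x => ⟨c * x.1 * c⁻¹, ?_⟩, fun y => ⟨c⁻¹ * y.1 * c, ?_⟩, ?_, ?_⟩
  · have hx := Subgroup.mem_centralizer_singleton_iff.mp x.2
    rw [Subgroup.mem_centralizer_singleton_iff, hb]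
    calc c * x.1 * c⁻¹ * (c * a * c⁻¹) = c * (x.1 * a) * c⁻¹ := by group
      _ = c * (a * x.1) * c⁻¹ := by rw [hx]
      _ = c * a * c⁻¹ * (c * x.1 * c⁻¹) := by group
  · have hy := Subgroup.mem_centralizer_singleton_iff.mp y.2
    rw [Subgroup.mem_centralizer_singleton_iff, ha]
    calc c⁻¹ * y.1 * c * (c⁻¹ * b * c) = c⁻¹ * (y.1 * b) * c := by group
      _ = c⁻¹ * (b * y.1) * c := by rw [hy]
      _ = c⁻¹ * b * c * (c⁻¹ * y.1 * c) := by group
  · intro x
    apply Subtype.ext
    show c⁻¹ * (c * x.1 * c⁻¹) * c = x.1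
    group
  · intro y
    apply Subtype.ext
    show c * (c⁻¹ * y.1 * c) * c⁻¹ = y.1
    group

/-- **Centraliser order of an involution of `Sp_2m(q)`, `q` even.**  If `rank (t - 1) = |ι|`
and `t` has the same type as the invertible symmetric matrix `S : Matrix ι ι F`, then
`|C(t)| = |{A | A S Aᵀ = S}| · q^(s(s+1)/2 + 2s(m-s)) · |Sp_(2m-2s)(q)|`. -/
theorem card_centralizer_invol [Fintype F] [CharP F 2]
    (t : Matrix.symplecticGroup (Fin m) F) (ht : t ^ 2 = 1)
    (S S' : Matrix ι ι F) (hS : Sᵀ = S) (hSS' : S * S' = 1)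
    (hrank : (t.1 - 1).rank = Fintype.card ι)
    (htype : (∀ v : Fin m ⊕ Fin m → F, Cfsg.sympForm m F v (t.1 *ᵥ v) = 0) ↔ ∀ i, S i i = 0) :
    Nat.card (Subgroup.centralizer {t}) =
      Nat.card {A : Matrix ι ι F // A * S * Aᵀ = S} *
        (Fintype.card F ^ (Fintype.card ι * (Fintype.card ι + 1) / 2
            + 2 * Fintype.card ι * (m - Fintype.card ι)) *
          (Fintype.card F ^ ((m - Fintype.card ι) ^ 2) *
            ∏ i ∈ Finset.range (m - Fintype.card ι), (Fintype.card F ^ (2 * (i + 1)) - 1))) := by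
  classical
  have htt : t.1 * t.1 = 1 := by
    have := congrArg Subtype.val ht
    rwa [pow_two] at this
  have hsm : Fintype.card ι ≤ m := by
    have h := Cfsg.Agent.S2166.sub_one_mul_self' _ htt
    have h2 := rank_add_rank_le_card_of_mul_eq_zero h
    simp only [Fintype.card_sum, Fintype.card_fin] at h2
    omega
  obtain ⟨e⟩ : Nonempty (ι ↪ Fin m) :=
    Function.Embedding.nonempty_of_card_le (by simpa using hsm)
  have he : Function.Injective e := e.injective
  obtain ⟨G, hG, hGt⟩ := Cfsg.Agent.S2166.exists_conj_matrix t.1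
    (tS (stdFam e : ι → (Fin m ⊕ Fin m → F)) S) t.2 (tS_mem (iso_stdFam e) hS) htt
    (tS_mul_self (iso_stdFam e) S) (by rw [hrank, rank_tS_std he hSS'])
    (htype.trans (typeA_tS_std_iff he hS).symm)
  have hconj : (⟨G, hG⟩ : Matrix.symplecticGroup (Fin m) F) * t =
      tSelt (stdFam e) (iso_stdFam e) S hS * ⟨G, hG⟩ := Subtype.ext hGt
  rw [card_centralizer_eq_of_conj _ _ _ hconj, card_centralizer_std he hS hSS',
    card_fixFam_std he]

end Cfsg.Agent.Lib.Helper45.SpInv
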