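import Mathlib
import Cfsg.Agent.Lib.Helper45.SpInv.Count

/-!
# Isometry groups of symmetric bilinear forms in characteristic two

For a finite field `F` of characteristic two and `J = Matrix.J (Fin k) F`:
* `{A | A J Aᵀ = J}` is the symplectic group;
* `{A | A (1 ⊕ J) Aᵀ = 1 ⊕ J}` consists of the `1 ⊕ D`, `D` symplectic;
* `{A | A (J + E_cc) Aᵀ = J + E_cc}` is the stabiliser of `e_c` in the symplectic group.
-/

set_option autoImplicit false
set_option linter.unusedSectionVars false

namespace Cfsg.Agent.Lib.Helper45.SpInv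

open Matrix Cfsg.Agent.Lib.Helper13 Cfsg.Agent.Lib.Helper45.PSpAut

variable {k : ℕ} {F : Type*} [Field F]

theorem J_diag (i : Fin k ⊕ Fin k) : Matrix.J (Fin k) F i i = 0 := by
  rcases i with i | i <;> simp [Matrix.J]

/-- The form `x ↦ x J xᵀ` vanishes: diagonal entries of `D J Dᵀ` are zero. -/
theorem mul_J_mul_transpose_diag {κ : Type*} (D : Matrix κ (Fin k ⊕ Fin k) F) (i : κ) :
    (D * Matrix.J (Fin k) F * Dᵀ) i i = 0 := by
  have h : (D * Matrix.J (Fin k) F * Dᵀ) i i = Cfsg.sympForm k F (D i) (D i) := by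
    unfold Cfsg.sympForm
    rw [Matrix.mul_assoc, Matrix.mul_apply]
    unfold dotProduct
    refine Finset.sum_congr rfl fun a _ => ?_
    rw [Matrix.mul_apply]
    rfl
  rw [h, sympForm_self]

section CharTwo

variable [CharP F 2]

theorem eq_zero_of_mul_self_eq_zero' {x : F} (h : x * x = 0) : x = 0 :=
  mul_self_eq_zero.mp h

theorem eq_one_of_mul_self_eq_one {x : F} (h : x * x = 1) : x = 1 := by
  have h1 : (x + 1) * (x + 1) = 0 := by
    have : (x + 1) * (x + 1) = x * x + 1 + (x + x) := by ring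
    rw [this, h, CharTwo.add_self_eq_zero, CharTwo.add_self_eq_zero, add_zero]
  have h2 := mul_self_eq_zero.mp h1
  have h3 : x = -1 := eq_neg_of_add_eq_zero_left h2
  rw [h3, CharTwo.neg_eq]

theorem neg_J_eq : -Matrix.J (Fin k) F = Matrix.J (Fin k) F := by
  ext i j
  rw [Matrix.neg_apply, CharTwo.neg_eq]

theorem J_transpose' : (Matrix.J (Fin k) F)ᵀ = Matrix.J (Fin k) F := by
  rw [Matrix.J_transpose, neg_J_eq]

theorem J_mul_J : Matrix.J (Fin k) F * Matrix.J (Fin k) F = 1 := by
  rw [Matrix.J_squared]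
  ext i j
  rw [Matrix.neg_apply, CharTwo.neg_eq]

/-! ### Type `a`: `S = J` -/

theorem card_isomA :
    Nat.card {A : Matrix (Fin k ⊕ Fin k) (Fin k ⊕ Fin k) F //
        A * Matrix.J (Fin k) F * Aᵀ = Matrix.J (Fin k) F} =
      Nat.card (Matrix.symplecticGroup (Fin k) F) :=
  Nat.card_congr (Equiv.subtypeEquivRight fun _ => SymplecticGroup.mem_iff.symm)

/-! ### Type `b`: `S = 1 ⊕ J` -/

/-- The form of type `b`. -/
def formB (k : ℕ) (F : Type*) [Field F] :
    Matrix (Unit ⊕ (Fin k ⊕ Fin k)) (Unit ⊕ (Fin k ⊕ Fin k)) F :=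
  Matrix.fromBlocks 1 0 0 (Matrix.J (Fin k) F)

theorem formB_transpose : (formB k F)ᵀ = formB k F := by
  unfold formB
  rw [Matrix.fromBlocks_transpose, J_transpose']
  simp

theorem formB_mul_self : formB k F * formB k F = 1 := by
  unfold formB
  rw [Matrix.fromBlocks_multiply, J_mul_J]
  simp [Matrix.fromBlocks_one]

theorem formB_diag : formB k F (Sum.inl ()) (Sum.inl ()) = 1 := by
  simp [formB]

theorem fromBlocks_mem_isomB (D : Matrix (Fin k ⊕ Fin k) (Fin k ⊕ Fin k) F)
    (hD : D ∈ Matrix.symplecticGroup (Fin k) F) :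
    (Matrix.fromBlocks 1 0 0 D : Matrix (Unit ⊕ (Fin k ⊕ Fin k)) (Unit ⊕ (Fin k ⊕ Fin k)) F) *
      formB k F * (Matrix.fromBlocks 1 0 0 D)ᵀ = formB k F := by
  unfold formB
  rw [Matrix.fromBlocks_transpose, Matrix.fromBlocks_multiply, Matrix.fromBlocks_multiply]
  simp only [Matrix.mul_one, Matrix.zero_mul, Matrix.mul_zero, add_zero, zero_add,
    Matrix.transpose_zero, Matrix.transpose_one]
  rw [SymplecticGroup.mem_iff.mp hD]

theorem isomB_structure (A : Matrix (Unit ⊕ (Fin k ⊕ Fin k)) (Unit ⊕ (Fin k ⊕ Fin k)) F)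
    (hA : A * formB k F * Aᵀ = formB k F) :
    A.toBlocks₂₂ ∈ Matrix.symplecticGroup (Fin k) F ∧
      A = Matrix.fromBlocks 1 0 0 A.toBlocks₂₂ := by
  obtain ⟨a, b, c, D, rfl⟩ : ∃ a b c D, A = Matrix.fromBlocks a b c D :=
    ⟨_, _, _, _, (Matrix.fromBlocks_toBlocks A).symm⟩
  rw [Matrix.toBlocks_fromBlocks₂₂]
  unfold formB at hA
  rw [Matrix.fromBlocks_transpose, Matrix.fromBlocks_multiply, Matrix.fromBlocks_multiply,
    Matrix.fromBlocks_inj] at hA
  simp only [Matrix.mul_one, Matrix.mul_zero, add_zero, zero_add] at hA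
  obtain ⟨h1, -, h3, h4⟩ := hA
  -- `c = 0`
  have hc : c = 0 := by
    ext i u
    have h := congrFun (congrFun h4 i) i
    rw [Matrix.add_apply, mul_J_mul_transpose_diag, add_zero, J_diag, Matrix.mul_apply] at h
    simp only [Finset.univ_unique, Finset.sum_singleton, Matrix.transpose_apply] at h
    exact mul_self_eq_zero.mp h
  -- `a = 1`
  have ha : a = 1 := by
    ext u v
    have h := congrFun (congrFun h1 ()) ()
    rw [Matrix.add_apply, mul_J_mul_transpose_diag, add_zero, Matrix.mul_apply] at h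
    simp only [Finset.univ_unique, Finset.sum_singleton, Matrix.transpose_apply,
      Matrix.one_apply_eq] at h
    have := eq_one_of_mul_self_eq_one h
    simpa using this
  subst hc
  subst ha
  simp only [Matrix.zero_mul, zero_add] at h3 h4
  have hD : D ∈ Matrix.symplecticGroup (Fin k) F := SymplecticGroup.mem_iff.mpr h4
  refine ⟨hD, ?_⟩
  -- `b = 0`
  have hb : b = 0 := by
    have hdet : (D * Matrix.J (Fin k) F).det ≠ 0 := by
      rw [Matrix.det_mul]
      apply mul_ne_zero
      · exact (SymplecticGroup.symplectic_det hD).ne_zero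
      · have := congrArg Matrix.det (J_mul_J (k := k) (F := F))
        rw [Matrix.det_mul, Matrix.det_one] at this
        intro h0
        rw [h0, zero_mul] at this
        exact zero_ne_one this
    have hv : (D * Matrix.J (Fin k) F) *ᵥ (fun j => b () j) = 0 := by
      funext i
      have := congrFun (congrFun h3 i) ()
      rw [Matrix.mul_apply] at this
      exact this
    have h0 := Matrix.eq_zero_of_mulVec_eq_zero hdet hv
    ext u j
    exact congrFun h0 j
  rw [hb]

theorem card_isomB :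
    Nat.card {A : Matrix (Unit ⊕ (Fin k ⊕ Fin k)) (Unit ⊕ (Fin k ⊕ Fin k)) F //
        A * formB k F * Aᵀ = formB k F} =
      Nat.card (Matrix.symplecticGroup (Fin k) F) := by
  symm
  refine Nat.card_congr (Equiv.ofBijective
    (fun D : Matrix.symplecticGroup (Fin k) F =>
      (⟨Matrix.fromBlocks 1 0 0 D.1, fromBlocks_mem_isomB D.1 D.2⟩ :
        {A : Matrix (Unit ⊕ (Fin k ⊕ Fin k)) (Unit ⊕ (Fin k ⊕ Fin k)) F //
          A * formB k F * Aᵀ = formB k F})) ⟨?_, ?_⟩)
  · intro D D' h
    have h1 := congrArg Subtype.val h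
    simp only [Matrix.fromBlocks_inj] at h1
    exact Subtype.ext h1.2.2.2
  · rintro ⟨A, hA⟩
    obtain ⟨h1, h2⟩ := isomB_structure A hA
    exact ⟨⟨A.toBlocks₂₂, h1⟩, Subtype.ext h2.symm⟩

/-! ### Type `c`: `S = J + E_cc` -/

/-- The form of type `c`. -/
def formC (k : ℕ) (F : Type*) [Field F] (c : Fin k ⊕ Fin k) :
    Matrix (Fin k ⊕ Fin k) (Fin k ⊕ Fin k) F :=
  Matrix.J (Fin k) F + Matrix.single c c 1

theorem formC_transpose (c : Fin k ⊕ Fin k) : (formC k F c)ᵀ = formC k F c := by
  unfold formC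
  rw [Matrix.transpose_add, J_transpose', Matrix.transpose_single]

theorem formC_diag (c : Fin k ⊕ Fin k) : formC k F c c c = 1 := by
  unfold formC
  rw [Matrix.add_apply, J_diag, zero_add, Matrix.single_apply_same]

/-- An explicit inverse of `J + E_cc`. -/
theorem formC_mul_inv (c : Fin k ⊕ Fin k) :
    formC k F c *
      (Matrix.J (Fin k) F + Matrix.J (Fin k) F * Matrix.single c c 1 * Matrix.J (Fin k) F) = 1 := by
  unfold formC
  have h1 : Matrix.single c c (1 : F) * Matrix.J (Fin k) F * Matrix.single c c 1 = 0 := by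
    rw [Matrix.single_mul_mul_single, J_diag, mul_zero, zero_mul, Matrix.single_zero]
  have h2 : Matrix.single c c (1 : F) * (Matrix.J (Fin k) F * Matrix.single c c 1 *
      Matrix.J (Fin k) F) = 0 := by
    rw [← Matrix.mul_assoc, ← Matrix.mul_assoc, h1, Matrix.zero_mul]
  have h3 : Matrix.J (Fin k) F * (Matrix.J (Fin k) F * Matrix.single c c 1 *
      Matrix.J (Fin k) F) = Matrix.single c c 1 * Matrix.J (Fin k) F := by
    rw [← Matrix.mul_assoc, ← Matrix.mul_assoc, J_mul_J, Matrix.one_mul]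
  rw [Matrix.add_mul, Matrix.mul_add, Matrix.mul_add, J_mul_J, h2, h3, add_zero, add_assoc]
  have h4 : Matrix.single c c (1 : F) * Matrix.J (Fin k) F +
      Matrix.single c c (1 : F) * Matrix.J (Fin k) F = 0 := by
    ext i j
    rw [Matrix.add_apply, CharTwo.add_self_eq_zero]
    rfl
  rw [h4, add_zero]

theorem mul_single_mul_transpose (A : Matrix (Fin k ⊕ Fin k) (Fin k ⊕ Fin k) F)
    (c : Fin k ⊕ Fin k) (i j : Fin k ⊕ Fin k) :
    (A * Matrix.single c c (1 : F) * Aᵀ) i j = A i c * A j c := by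
  rw [Matrix.mul_apply, Finset.sum_eq_single c]
  · rw [Matrix.mul_single_apply_same, mul_one, Matrix.transpose_apply]
  · intro b _ hb
    rw [Matrix.mul_single_apply_of_ne _ _ _ _ _ hb, zero_mul]
  · intro h
    exact absurd (Finset.mem_univ c) h

theorem isomC_iff (c : Fin k ⊕ Fin k) (A : Matrix (Fin k ⊕ Fin k) (Fin k ⊕ Fin k) F) :
    A * formC k F c * Aᵀ = formC k F c ↔
      A ∈ Matrix.symplecticGroup (Fin k) F ∧ A *ᵥ Pi.single c 1 = Pi.single c 1 := by
  unfold formC
  rw [Matrix.mul_add, Matrix.add_mul, SymplecticGroup.mem_iff, mulVec_single_one]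
  constructor
  · intro h
    have hcol : ∀ i, A i c = if i = c then 1 else 0 := by
      intro i
      have h1 := congrFun (congrFun h i) i
      rw [Matrix.add_apply, Matrix.add_apply, mul_J_mul_transpose_diag, zero_add, J_diag,
        zero_add, mul_single_mul_transpose] at h1
      by_cases hic : i = c
      · subst hic
        rw [Matrix.single_apply_same] at h1
        rw [if_pos rfl]
        exact eq_one_of_mul_self_eq_one (F := F) h1
      · rw [Matrix.single_apply_of_ne _ _ _ _ _ (fun hh => hic hh.1.symm)] at h1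
        rw [if_neg hic]
        exact mul_self_eq_zero.mp h1
    have hE : A * Matrix.single c c 1 * Aᵀ = Matrix.single c c 1 := by
      ext i j
      rw [mul_single_mul_transpose, hcol i, hcol j, Matrix.single_apply]
      by_cases hi : i = c
      · by_cases hj : j = c
        · rw [if_pos hi, if_pos hj, if_pos ⟨hi.symm, hj.symm⟩, mul_one]
        · rw [if_neg hj, mul_zero, if_neg (fun hh => hj hh.2.symm)]
      · rw [if_neg hi, zero_mul, if_neg (fun hh => hi hh.1.symm)]
    rw [hE] at h
    refine ⟨add_right_cancel h, ?_⟩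
    funext i
    show A i c = _
    rw [hcol i, Pi.single_apply]
  · rintro ⟨h1, h2⟩
    have hcol : ∀ i, A i c = if i = c then 1 else 0 := by
      intro i
      have := congrFun h2 i
      rw [Pi.single_apply] at this
      exact this
    have hE : A * Matrix.single c c 1 * Aᵀ = Matrix.single c c 1 := by
      ext i j
      rw [mul_single_mul_transpose, hcol i, hcol j, Matrix.single_apply]
      by_cases hi : i = c
      · by_cases hj : j = c
        · rw [if_pos hi, if_pos hj, if_pos ⟨hi.symm, hj.symm⟩, mul_one]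
        · rw [if_neg hj, mul_zero, if_neg (fun hh => hj hh.2.symm)]
      · rw [if_neg hi, zero_mul, if_neg (fun hh => hi hh.1.symm)]
    rw [h1, hE]

theorem card_isomC [Fintype F] (hk : 1 ≤ k) (c : Fin k ⊕ Fin k) :
    Nat.card {A : Matrix (Fin k ⊕ Fin k) (Fin k ⊕ Fin k) F //
        A * formC k F c * Aᵀ = formC k F c} =
      Fintype.card F ^ (1 * (1 + 1) / 2 + 2 * 1 * (k - 1)) *
        (Fintype.card F ^ ((k - 1) ^ 2) *
          ∏ i ∈ Finset.range (k - 1), (Fintype.card F ^ (2 * (i + 1)) - 1)) := by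
  classical
  have hw : (fun _ : Fin 1 => (Pi.single c 1 : Fin k ⊕ Fin k → F)) ∈ isoTuples k 1 F := by
    refine ⟨?_, fun i j => sympForm_self _⟩
    rw [linearIndependent_unique_iff]
    intro h0
    have := congrFun h0 c
    simp at this
  rw [← card_fixTuple hk _ hw]
  refine Nat.card_congr
    ⟨fun A => ⟨⟨A.1, ((isomC_iff c A.1).mp A.2).1⟩, fun _ => ((isomC_iff c A.1).mp A.2).2⟩,
     fun g => ⟨g.1.1, (isomC_iff c g.1.1).mpr ⟨g.1.2, g.2 0⟩⟩, fun A => rfl, fun g => rfl⟩

end CharTwo

end Cfsg.Agent.Lib.Helper45.SpInv
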