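import Mathlib
import Cfsg.Agent.Lib.Helper45.SpInv.Isom
import Cfsg.Agent.Lib.Helper36.AltEven

/-!
# Congruence of invertible symmetric matrices over a finite field of characteristic two

Two invertible symmetric matrices over a finite field of characteristic two are congruent as soon
as they are both alternating (zero diagonal) or both non-alternating.  The proof goes through the
conjugacy of the corresponding Siegel involutions of `Sp_2m(F)`.
-/

set_option autoImplicit false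
set_option linter.unusedSectionVars false

namespace Cfsg.Agent.Lib.Helper45.SpInv

open Matrix Cfsg.Agent.Lib.Helper13 Cfsg.Agent.Lib.Helper45.PSpAut

variable {m : ℕ} {F : Type*} [Field F] {ι : Type*} [Fintype ι] [DecidableEq ι]

theorem exists_mat_of_nVec_eq' {e : ι → Fin m} (he : Function.Injective e)
    {S₁ S₁' S₂ : Matrix ι ι F} (hSS' : S₁ * S₁' = 1) (g : Matrix.symplecticGroup (Fin m) F)
    (h : ∀ x : Fin m ⊕ Fin m → F,
      nVec (fun i => g.1 *ᵥ (stdFam e i : Fin m ⊕ Fin m → F)) S₁ x = nVec (stdFam e) S₂ x) :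
    ∃ A : Matrix ι ι F,
      (∀ j, g.1 *ᵥ (stdFam e j : Fin m ⊕ Fin m → F) = comb (stdFam e) (fun i => A i j)) ∧
        A * S₁ * Aᵀ = S₂ := by
  have hdual : ∀ k, phi (fun i => g.1 *ᵥ (stdFam e i : Fin m ⊕ Fin m → F))
      (g.1 *ᵥ (stdDual e k : Fin m ⊕ Fin m → F)) = Pi.single k 1 := fun k => by
    rw [phi_map]; exact phi_stdDual he k
  let A : Matrix ι ι F := fun i l =>
    (S₂ *ᵥ phi (stdFam e) (comb (fun k => g.1 *ᵥ (stdDual e k : Fin m ⊕ Fin m → F))
      (fun k => S₁' k l))) i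
  have hA : ∀ l, g.1 *ᵥ (stdFam e l : Fin m ⊕ Fin m → F) = comb (stdFam e) (fun i => A i l) := by
    intro l
    have h1 := fam_eq_nVec (fun i => g.1 *ᵥ (stdFam e i : Fin m ⊕ Fin m → F))
      (fun k => g.1 *ᵥ (stdDual e k : Fin m ⊕ Fin m → F)) hdual hSS' l
    rw [h] at h1
    exact h1
  refine ⟨A, hA, ?_⟩
  apply eq_of_nVec_eq he
  intro v
  rw [← nVec_of_comb (stdFam e) (fun i => g.1 *ᵥ (stdFam e i : Fin m ⊕ Fin m → F)) A hA S₁ v, h]

/-- **Congruence classification of invertible symmetric matrices, finite field, char two.** -/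
theorem exists_congr_of_type [Fintype F] [CharP F 2] {S₁ S₁' S₂ S₂' : Matrix ι ι F}
    (h₁ : S₁ᵀ = S₁) (h₂ : S₂ᵀ = S₂) (hi₁ : S₁ * S₁' = 1) (hi₂ : S₂ * S₂' = 1)
    (htype : (∀ i, S₁ i i = 0) ↔ (∀ i, S₂ i i = 0)) :
    ∃ A : Matrix ι ι F, A * S₁ * Aᵀ = S₂ := by
  classical
  let e : ι → Fin (Fintype.card ι) := Fintype.equivFin ι
  have he : Function.Injective e := (Fintype.equivFin ι).injective
  obtain ⟨G, hG, hGt⟩ := Cfsg.Agent.S2166.exists_conj_matrix
    (tS (stdFam e : ι → (Fin (Fintype.card ι) ⊕ Fin (Fintype.card ι) → F)) S₁)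
    (tS (stdFam e : ι → (Fin (Fintype.card ι) ⊕ Fin (Fintype.card ι) → F)) S₂)
    (tS_mem (iso_stdFam e) h₁) (tS_mem (iso_stdFam e) h₂)
    (tS_mul_self (iso_stdFam e) S₁) (tS_mul_self (iso_stdFam e) S₂)
    (by rw [rank_tS_std he hi₁, rank_tS_std he hi₂])
    ((typeA_tS_std_iff he h₁).trans (htype.trans (typeA_tS_std_iff he h₂).symm))
  have key : ∀ x : Fin (Fintype.card ι) ⊕ Fin (Fintype.card ι) → F,
      nVec (fun i => G *ᵥ (stdFam e i : Fin (Fintype.card ι) ⊕ Fin (Fintype.card ι) → F)) S₁ x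
        = nVec (stdFam e) S₂ x := by
    intro x
    have h1 := congrArg (fun M : Matrix _ _ F =>
      M *ᵥ ((⟨G, hG⟩ : Matrix.symplecticGroup (Fin (Fintype.card ι)) F)⁻¹.1 *ᵥ x)) hGt
    simp only [← mulVec_mulVec, tS_mulVec, mulVec_add] at h1
    have h2 : G *ᵥ ((⟨G, hG⟩ : Matrix.symplecticGroup (Fin (Fintype.card ι)) F)⁻¹.1 *ᵥ x) = x :=
      sp_mulVec_inv_mulVec ⟨G, hG⟩ x
    have h3 := nVec_map (⟨G, hG⟩ : Matrix.symplecticGroup (Fin (Fintype.card ι)) F)
      (stdFam e) S₁ ((⟨G, hG⟩ : Matrix.symplecticGroup (Fin (Fintype.card ι)) F)⁻¹.1 *ᵥ x)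
    simp only [h2] at h3 h1
    rw [h3] at h1
    exact add_left_cancel h1
  obtain ⟨A, -, hA⟩ := exists_mat_of_nVec_eq' he hi₁
    (⟨G, hG⟩ : Matrix.symplecticGroup (Fin (Fintype.card ι)) F) key
  exact ⟨A, hA⟩

/-- Every invertible symmetric alternating matrix of size `2k` is congruent to `J`. -/
theorem exists_congr_J [Fintype F] [CharP F 2] {k : ℕ}
    {S S' : Matrix (Fin k ⊕ Fin k) (Fin k ⊕ Fin k) F} (hS : Sᵀ = S) (hi : S * S' = 1)
    (hd : ∀ i, S i i = 0) :
    ∃ A : Matrix (Fin k ⊕ Fin k) (Fin k ⊕ Fin k) F, A * S * Aᵀ = Matrix.J (Fin k) F :=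
  exists_congr_of_type hS J_transpose' hi J_mul_J ⟨fun _ => J_diag, fun _ => hd⟩

/-- Every invertible symmetric non-alternating matrix of size `2k` is congruent to
`J + E_cc`. -/
theorem exists_congr_formC [Fintype F] [CharP F 2] {k : ℕ} (c : Fin k ⊕ Fin k)
    {S S' : Matrix (Fin k ⊕ Fin k) (Fin k ⊕ Fin k) F} (hS : Sᵀ = S) (hi : S * S' = 1)
    (hd : ∃ i, S i i ≠ 0) :
    ∃ A : Matrix (Fin k ⊕ Fin k) (Fin k ⊕ Fin k) F, A * S * Aᵀ = formC k F c := by
  refine exists_congr_of_type hS (formC_transpose c) hi (formC_mul_inv c) ⟨fun h => ?_, fun h => ?_⟩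
  · obtain ⟨i, hi⟩ := hd
    exact absurd (h i) hi
  · have := h c
    rw [formC_diag] at this
    exact absurd this one_ne_zero

/-- Every invertible symmetric matrix of odd size `2k+1` is congruent to `1 ⊕ J`. -/
theorem exists_congr_formB [Fintype F] [CharP F 2] {k : ℕ}
    {S S' : Matrix (Unit ⊕ (Fin k ⊕ Fin k)) (Unit ⊕ (Fin k ⊕ Fin k)) F} (hS : Sᵀ = S)
    (hi : S * S' = 1) (hd : ∃ i, S i i ≠ 0) :
    ∃ A : Matrix (Unit ⊕ (Fin k ⊕ Fin k)) (Unit ⊕ (Fin k ⊕ Fin k)) F,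
      A * S * Aᵀ = formB k F := by
  refine exists_congr_of_type hS formB_transpose hi formB_mul_self ⟨fun h => ?_, fun h => ?_⟩
  · obtain ⟨i, hi⟩ := hd
    exact absurd (h i) hi
  · have := h (Sum.inl ())
    rw [formB_diag] at this
    exact absurd this one_ne_zero

/-- An invertible symmetric matrix of odd size has a nonzero diagonal entry (char two). -/
theorem exists_diag_ne_zero_of_odd [CharP F 2] {S S' : Matrix ι ι F} (hS : Sᵀ = S)
    (hi : S * S' = 1) (hodd : Odd (Fintype.card ι)) : ∃ i, S i i ≠ 0 := by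
  by_contra hcon
  push Not at hcon
  have h1 : Even S.rank := by
    apply Cfsg.Agent.Lib.Helper36.even_rank_of_alt_matrix
    intro x
    rw [dotProduct_comm]
    exact dot_mulVec_self_eq_zero S hS hcon x
  have h2 : S.rank = Fintype.card ι := by
    apply Matrix.rank_of_isUnit
    exact IsUnit.of_mul_eq_one _ hi
  rw [h2] at h1
  exact (Nat.not_even_iff_odd.mpr hodd) h1

end Cfsg.Agent.Lib.Helper45.SpInv
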