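import Mathlib
import Cfsg.Agent.Lib.Helper45.SpInv.Isom

/-!
# Arithmetic for the centraliser orders of involutions of `Sp_2m(q)`, `q` even
-/

set_option autoImplicit false

namespace Cfsg.Agent.Lib.Helper45.SpInv

open Matrix

theorem prod_fin_eq (q n : ℕ) :
    ∏ i : Fin n, (q ^ (2 * ((i : ℕ) + 1)) - 1) = ∏ i ∈ Finset.range n, (q ^ (2 * (i + 1)) - 1) :=
  Fin.prod_univ_eq_prod_range (fun i => q ^ (2 * (i + 1)) - 1) n

theorem exp_identity (s l : ℕ) :
    s * (s + 1) / 2 + 2 * s * l = 2 * (s + l) * s - (3 * s ^ 2 - s) / 2 := by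
  obtain ⟨a, ha⟩ : ∃ a, s * (s + 1) = 2 * a := by
    have := Nat.even_mul_succ_self s
    obtain ⟨a, ha⟩ := this
    exact ⟨a, by rw [ha]; ring⟩
  have hb : s ≤ s * s := Nat.le_mul_self s
  have e1 : s * (s + 1) = s * s + s := by ring
  have e2 : 3 * s ^ 2 = 3 * (s * s) := by ring
  have e3 : 2 * (s + l) * s = 2 * (s * s) + 2 * (s * l) := by ring
  have e4 : 2 * s * l = 2 * (s * l) := by ring
  rw [e2, e3, e4, ha]
  rw [e1] at ha
  generalize s * s = b at *
  generalize s * l = c at *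
  omega

theorem exp_identity_c (s l : ℕ) (hs : 2 ≤ s) :
    (s - 1) + (s * (s + 1) / 2 + 2 * s * l) = 2 * (s + l) * s - (3 * s ^ 2 - 3 * s) / 2 - 1 := by
  obtain ⟨a, ha⟩ : ∃ a, s * (s + 1) = 2 * a := by
    have := Nat.even_mul_succ_self s
    obtain ⟨a, ha⟩ := this
    exact ⟨a, by rw [ha]; ring⟩
  have hb : s ≤ s * s := Nat.le_mul_self s
  have e1 : s * (s + 1) = s * s + s := by ring
  have e2 : 3 * s ^ 2 = 3 * (s * s) := by ring
  have e3 : 2 * (s + l) * s = 2 * (s * s) + 2 * (s * l) := by ring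
  have e4 : 2 * s * l = 2 * (s * l) := by ring
  rw [e2, e3, e4, ha]
  rw [e1] at ha
  generalize s * s = b at *
  generalize s * l = c at *
  omega

/-- A bound for the rank of `t - 1`, `t` an involution of `Sp_2m(F)` in characteristic two. -/
theorem rank_sub_one_le {m : ℕ} {F : Type*} [Field F] [CharP F 2]
    (t : Matrix.symplecticGroup (Fin m) F) (ht : t ^ 2 = 1) : (t.1 - 1).rank ≤ m := by
  have htt : t.1 * t.1 = 1 := by
    have := congrArg Subtype.val ht
    rwa [pow_two] at this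
  have h := Cfsg.Agent.S2166.sub_one_mul_self' _ htt
  have h2 := rank_add_rank_le_card_of_mul_eq_zero h
  simp only [Fintype.card_sum, Fintype.card_fin] at h2
  omega

end Cfsg.Agent.Lib.Helper45.SpInv
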