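import Mathlib
import Cfsg.Agent.Lib.Helper45.SpInv.Congr

/-!
# The standard symplectic transvection in characteristic two and its centraliser
-/

set_option autoImplicit false
set_option linter.unusedSectionVars false

namespace Cfsg.Agent.Lib.Helper45.SpInv

open Matrix Cfsg.Agent.Lib.Helper13 Cfsg.Agent.Lib.Helper45.PSpAut

variable {m : ℕ} {F : Type*} [Field F] [CharP F 2]

/-- The transvection `x ↦ x + f(x, e_i) e_i` (`e_i` the `inl i` basis vector). -/
noncomputable def tvStd (i0 : Fin m) : Matrix.symplecticGroup (Fin m) F :=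
  tSelt (stdFam (fun _ : Unit => i0)) (iso_stdFam _) (1 : Matrix Unit Unit F)
    Matrix.transpose_one

theorem isTransvection_tvStd (i0 : Fin m) :
    Cfsg.IsTransvection ((tvStd i0 : Matrix.symplecticGroup (Fin m) F) :
      Matrix (Fin m ⊕ Fin m) (Fin m ⊕ Fin m) F) := by
  have he : Function.Injective (fun _ : Unit => i0) := fun a b _ => Subsingleton.elim a b
  refine ⟨?_, ?_⟩
  · have := rank_tS_std (F := F) he (S := (1 : Matrix Unit Unit F)) (S' := 1) (one_mul 1)
    rw [Fintype.card_unit] at this
    exact this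
  · exact Cfsg.Agent.S2166.sub_one_mul_self' _ (tS_mul_self (iso_stdFam _) _)

theorem mem_centralizer_tvStd_iff (i0 : Fin m) (g : Matrix.symplecticGroup (Fin m) F) :
    g ∈ Subgroup.centralizer {(tvStd i0 : Matrix.symplecticGroup (Fin m) F)} ↔
      g.1 *ᵥ (Pi.single (Sum.inl i0) 1 : Fin m ⊕ Fin m → F) = Pi.single (Sum.inl i0) 1 := by
  have he : Function.Injective (fun _ : Unit => i0) := fun a b _ => Subsingleton.elim a b
  unfold tvStd
  rw [mem_centralizer_std_iff he Matrix.transpose_one (one_mul (1 : Matrix Unit Unit F)) g]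
  have hw : ∀ j : Unit, (stdFam (fun _ : Unit => i0) j : Fin m ⊕ Fin m → F) =
      Pi.single (Sum.inl i0) 1 := fun _ => rfl
  have hcomb : ∀ A : Matrix Unit Unit F, ∀ j : Unit,
      comb (stdFam (fun _ : Unit => i0) : Unit → (Fin m ⊕ Fin m → F)) (fun i => A i j) =
        A () () • (Pi.single (Sum.inl i0) 1 : Fin m ⊕ Fin m → F) := by
    intro A j
    unfold comb
    rw [Finset.univ_unique, Finset.sum_singleton]
    rfl
  constructor
  · rintro ⟨A, hA, hAS⟩
    have h1 := hA ()
    rw [hcomb, hw] at h1
    have h2 := congrFun (congrFun hAS ()) ()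
    rw [Matrix.mul_one, Matrix.mul_apply, Finset.univ_unique, Finset.sum_singleton,
      Matrix.transpose_apply, Matrix.one_apply_eq] at h2
    have h3 : A () () = 1 := eq_one_of_mul_self_eq_one h2
    rw [h1, h3, one_smul]
  · intro h
    refine ⟨1, fun j => ?_, by simp⟩
    rw [hcomb, hw, h, Matrix.one_apply_eq, one_smul]

end Cfsg.Agent.Lib.Helper45.SpInv
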